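import Mathlib
import Cfsg.Agent.INV.Len8.Beta
import Cfsg.Agent.INV.Len.Chain
import Cfsg.Agent.FGS.ClassSize
import Cfsg.Agent.S0215

/-!
Simple groups of length eight with Sylow 2-subgroups of order 128: tools.
-/

set_option autoImplicit false
set_option linter.unusedSectionVars false
open Cfsg Subgroup CL.MSS CL.Len ArithmeticFunction
open scoped commutatorElement

namespace CL.Len8

variable {G : Type*} [Group G] [Finite G]

theorem mem_c1 {z g : G} : g ∈ c1 z ↔ g * z * g⁻¹ = z := by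
  rw [mem_centralizer_singleton_iff, mul_inv_eq_iff_eq_mul]

theorem cj_mul' (g a b : G) : g * (a * b) * g⁻¹ = g * a * g⁻¹ * (g * b * g⁻¹) := by group

theorem cj_cj (g h a : G) : g * h * a * (g * h)⁻¹ = g * (h * a * h⁻¹) * g⁻¹ := by group

theorem cj_sq (g : G) {t : G} (ht : t * t = 1) : g * t * g⁻¹ * (g * t * g⁻¹) = 1 := by
  rw [← cj_mul', ht]; group

theorem cj_inv_of {g a b : G} (h : g * a * g⁻¹ = b) : g⁻¹ * b * g⁻¹⁻¹ = a := by rw [← h]; group

theorem mem_of_odd_pow {C : Subgroup G} {x : G} {k m : ℕ} (hk : x ^ 2 ^ k ∈ C) (hm : Odd m)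
    (h : x ^ m ∈ C) : x ∈ C := by
  have h0 : (2 ^ k).Coprime m := Nat.Coprime.pow_left _ (Nat.coprime_two_left.2 hm)
  have h1 : (1 : ℤ) = (2 ^ k : ℕ) * Nat.gcdA (2 ^ k) m + m * Nat.gcdB (2 ^ k) m := by
    rw [← Nat.gcd_eq_gcd_ab, h0.gcd_eq_one]; rfl
  rw [← zpow_one x, h1, zpow_add, zpow_mul, zpow_mul, zpow_natCast, zpow_natCast]
  exact C.mul_mem (C.zpow_mem hk _) (C.zpow_mem h _)

/-- `x` is not a `2`-element -/
def NT (x : G) : Prop := ∀ k : ℕ, x ^ 2 ^ k ≠ 1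

theorem NT.of_odd {C : Subgroup G} {x : G} {m : ℕ} (hm : Odd m) (h : x ^ m ∈ C) (hx : x ∉ C) :
    NT x := fun k e => hx (mem_of_odd_pow (k := k) (e ▸ C.one_mem) hm h)

theorem NT.not_mem {x : G} (h : NT x) {P : Subgroup G} (hP : IsPGroup 2 P) : x ∉ P := fun k =>
  let ⟨n, e⟩ := isPGroup_iff_forall_mem.1 hP x k; h n e

theorem NT.cj {x : G} (h : NT x) (g : G) : NT (g * x * g⁻¹) := fun k e => h k (by
  rw [conj_pow] at e
  simpa using e)

theorem ncard_conj (H : Subgroup G) (x : G) :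
    {y | ∃ h ∈ H, h * x * h⁻¹ = y}.ncard = (c1 x).relIndex H := by
  rw [← CL.CS.ncard_conj_subgroup]
  congr 1
  ext y
  simp

theorem card_mul_rel (A H : Subgroup G) :
    Nat.card (H ⊓ A : Subgroup G) * A.relIndex H = Nat.card H := by
  rw [← (A.subgroupOf H).card_mul_index, relIndex, inf_comm, ← subgroupOf_map_subtype,
    card_map_of_injective H.subtype_injective]

theorem card_mul_rel' {A H : Subgroup G} (h : A ≤ H) : Nat.card A * A.relIndex H = Nat.card H := by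
  rw [← card_mul_rel A H, inf_of_le_right h]

/-- the orbit is a coset -/
theorem rel_coset {H U : Subgroup G} {z : G} (h1 : ∀ u ∈ U, ∃ h ∈ H, h * z * h⁻¹ = z * u)
    (h2 : ∀ h ∈ H, ∃ u ∈ U, h * z * h⁻¹ = z * u) : (c1 z).relIndex H = Nat.card U := by
  rw [← ncard_conj, ← SetLike.coe_sort_coe, Nat.card_coe_set_eq,
    ← Set.ncard_image_of_injective (U : Set G) (mul_right_injective z)]
  congr 1
  ext y
  constructor
  · rintro ⟨h, hh, rfl⟩
    obtain ⟨u, hu, e⟩ := h2 h hh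
    exact ⟨u, hu, e.symm⟩
  · rintro ⟨u, hu, rfl⟩
    exact h1 u hu

theorem rel_le {H U : Subgroup G} {z : G} (h2 : ∀ h ∈ H, h * z * h⁻¹ ∈ U) :
    (c1 z).relIndex H ≤ Nat.card U := by
  rw [← ncard_conj, ← SetLike.coe_sort_coe, Nat.card_coe_set_eq]
  refine Set.ncard_le_ncard ?_
  rintro _ ⟨h, hh, rfl⟩
  exact h2 h hh

theorem card_le_two_mul {A B : Subgroup G}
    (h : ∀ a ∈ B, ∀ b ∈ B, a ∉ A → b ∉ A → a * b ∈ A) :
    Nat.card B ≤ 2 * Nat.card (B ⊓ A : Subgroup G) := by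
  rw [← card_mul_rel A B, mul_comm]
  refine Nat.mul_le_mul_right _ ?_
  by_cases k : B ≤ A
  · rw [relIndex_eq_one.2 k]; omega
  obtain ⟨b, hb, hb'⟩ := SetLike.not_le_iff_exists.1 k
  refine (index_eq_two_iff.2 ⟨⟨b, hb⟩, fun a => ?_⟩).le
  simp only [mem_subgroupOf, Subgroup.coe_mul]
  by_cases ha : (a : G) ∈ A
  · exact Or.inr ⟨ha, fun e => hb' ((A.mul_mem_cancel_left ha).1 e)⟩
  · exact Or.inl ⟨h a a.2 b hb ha hb', ha⟩

theorem card_eq_two_mul {A B : Subgroup G} (hA : A ≤ B) {s : G} (hs : s ∈ B) (hs' : s ∉ A)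
    (h : ∀ b ∈ B, b ∈ A ∨ s * b ∈ A) : Nat.card B = 2 * Nat.card A := by
  rw [← card_mul_rel' hA, mul_comm]
  congr 1
  refine index_eq_two_iff'.2 ⟨⟨s, hs⟩, fun a => ?_⟩
  simp only [mem_subgroupOf, Subgroup.coe_mul]
  by_cases ha : (a : G) ∈ A
  · exact Or.inr ⟨ha, fun e => hs' ((A.mul_mem_cancel_right ha).1 e)⟩
  · exact Or.inl ⟨(h a a.2).resolve_left ha, ha⟩

theorem mul_mem_of_card {A B : Subgroup G} (hA : A ≤ B) (hc : Nat.card B = 2 * Nat.card A) {a b : G}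
    (ha : a ∈ B) (hb : b ∈ B) (ha' : a ∉ A) (hb' : b ∉ A) : a * b ∈ A := by
  have h1 := card_mul_rel' hA
  have h2 : A.relIndex B = 2 := by
    rw [hc, mul_comm 2] at h1
    exact Nat.eq_of_mul_eq_mul_left Nat.card_pos h1
  have := (mul_mem_iff_of_index_two h2 (a := ⟨a, ha⟩) (b := ⟨b, hb⟩)).2 (by simp [mem_subgroupOf, ha', hb'])
  exact this

theorem le_norm_of_card {A B : Subgroup G} (hA : A ≤ B) (hc : Nat.card B = 2 * Nat.card A) :
    B ≤ normalizer (A : Set G) := le_normalizer_of_cj_le fun x hx => cj_le_iff_forall.2 fun a ha => by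
  by_cases k : x ∈ A
  · exact A.mul_mem (A.mul_mem k ha) (A.inv_mem k)
  · exact mul_mem_of_card hA hc (B.mul_mem hx (hA ha)) (B.inv_mem hx)
      (fun e => k ((A.mul_mem_cancel_right ha).1 e)) fun e => k (A.inv_mem_iff.1 e)

theorem two_mul_card_dvd {A B : Subgroup G} (hB : IsPGroup 2 B) (h : A < B) :
    2 * Nat.card A ∣ Nat.card B := by
  rw [← card_mul_rel' h.le, mul_comm]
  refine Nat.mul_dvd_mul_left _ ?_
  obtain ⟨n, hn⟩ := hB.index (A.subgroupOf B)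
  rw [relIndex, hn]
  exact dvd_pow_self 2 fun e => h.not_ge (relIndex_eq_one.1 (by rw [relIndex, hn, e, pow_zero]))

theorem card_pair {z : G} {A : Subgroup G} (hz : z ≠ 1) (h : ∀ a ∈ A, a = 1 ∨ a = z) :
    Nat.card A ≤ 2 := by
  rw [← SetLike.coe_sort_coe, Nat.card_coe_set_eq, ← Set.ncard_pair hz.symm]
  exact Set.ncard_le_ncard h

/-- an element of the normalizer whose square lies in `A` -/
theorem exists_sq {A B : Subgroup G} (hB : IsPGroup 2 B) (h : A < B) :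
    ∃ s ∈ B, s ∈ normalizer (A : Set G) ∧ s ∉ A ∧ s * s ∈ A := by
  obtain ⟨s, hs, hs'⟩ := SetLike.exists_of_lt (lt_inf_normalizer_of_lt hB h)
  obtain ⟨k, hk⟩ := isPGroup_iff_forall_mem.1 hB s hs.1
  have : s ^ 2 ^ k ∈ A := hk ▸ A.one_mem
  clear hk
  induction k with
  | zero => exact absurd (by simpa using this) hs'
  | succ k ih =>
    by_cases e : s ^ 2 ^ k ∈ A
    · exact ih e
    · exact ⟨_, B.pow_mem hs.1 _, pow_mem hs.2 _, e, by rwa [← sq, ← pow_mul, ← pow_succ]⟩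

theorem sup_cases {A : Subgroup G} {s : G} (hs : s ∈ normalizer (A : Set G)) (h2 : s * s ∈ A) {g : G}
    (hg : g ∈ A ⊔ zpowers s) : g ∈ A ∨ s * g ∈ A := by
  obtain ⟨a, ha, _, ⟨k, rfl⟩, rfl⟩ := (mem_sup_of_normalizes_left (zpowers_le.2 hs)).1 hg
  have k2 : ∀ m : ℤ, s ^ (2 * m) ∈ A := fun m => by
    rw [zpow_mul]; exact A.zpow_mem (by rwa [zpow_two]) _
  rcases Int.even_or_odd' k with ⟨m, rfl | rfl⟩
  · exact Or.inl (A.mul_mem ha (k2 m))
  · refine Or.inr ?_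
    have := A.mul_mem ((mem_normalizer_iff.1 hs a).1 ha) (k2 (m + 1))
    convert this using 1
    simp only []
    group

/-- ambient form of quasisimplicity -/
structure QS (K : Subgroup G) : Prop where
  perf : ⁅K, K⁆ = K
  norm : ∀ M ≤ K, K ≤ normalizer (M : Set G) → M = K ∨ M ≤ centralizer (K : Set G)
  ev : ∃ a ∈ K, a ∉ centralizer (K : Set G) ∧ a * a ∈ centralizer (K : Set G)

theorem QS.cent_of_comm {K : Subgroup G} (hK : QS K) {w : G}
    (h : ∀ k ∈ K, w * k * w⁻¹ * k⁻¹ ∈ K ⊓ centralizer (K : Set G)) :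
    w ∈ centralizer (K : Set G) := by
  suffices e : K ≤ c1 w from fun k hk => mem_centralizer_singleton_iff.1 (e hk)
  rw [← hK.perf]
  refine commutator_le.2 fun a ha b hb => mem_centralizer_singleton_iff.2 ?_
  obtain ⟨α, hα, e1⟩ : ∃ α ∈ K ⊓ centralizer (K : Set G), w * a * w⁻¹ = α * a :=
    ⟨_, h a ha, by group⟩
  obtain ⟨β, hβ, e2⟩ : ∃ β ∈ K ⊓ centralizer (K : Set G), w * b * w⁻¹ = β * b :=
    ⟨_, h b hb, by group⟩
  have e3 : w * ⁅a, b⁆ * w⁻¹ = α * a * (β * b) * (α * a)⁻¹ * (β * b)⁻¹ := by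
    rw [← e1, ← e2, commutatorElement_def]; group
  have e4 : α * a * (β * b) * (α * a)⁻¹ = a * (β * b) * a⁻¹ := by
    rw [show α * a * (β * b) * (α * a)⁻¹ = α * (a * (β * b) * a⁻¹) * α⁻¹ by group,
      ← hα.2 _ (K.mul_mem (K.mul_mem ha (K.mul_mem hβ.1 hb)) (K.inv_mem ha))]
    group
  rw [e4, show a * (β * b) * a⁻¹ * (β * b)⁻¹ = a * β * (b * a⁻¹ * b⁻¹) * β⁻¹ by group, hβ.2 a ha,
    mul_assoc β, ← hβ.2 _ (K.mul_mem ha (K.mul_mem (K.mul_mem hb (K.inv_mem ha)) (K.inv_mem hb)))]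
    at e3
  have e5 : w * ⁅a, b⁆ * w⁻¹ = ⁅a, b⁆ := e3.trans (by rw [commutatorElement_def]; group)
  exact (mul_inv_eq_iff_eq_mul.1 e5).symm

/-- the `Z*`-theorem modulo a normal subgroup `B` centralizing `K` -/
theorem QS.zq {K H B P : Subgroup G} (hK : QS K) (h1 : K ≤ H) (h2 : H ≤ normalizer (K : Set G))
    (h3 : H ≤ normalizer (B : Set G)) (h4 : B ≤ centralizer (K : Set G)) (hP : SylIn 2 P H)
    (hB : B ≤ P) {w : G} (hw : w ∈ P) (hww : w * w ∈ B)
    (hi : ∀ g ∈ H, g * w * g⁻¹ ∈ P → w⁻¹ * (g * w * g⁻¹) ∈ B) : w ∈ centralizer (K : Set G) := by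
  by_cases hwB : w ∈ B
  · exact h4 hwB
  haveI : (B.subgroupOf H).Normal := normal_subgroupOf_of_le_normalizer h3
  let π := QuotientGroup.mk' (B.subgroupOf H)
  have l1 := (hP.subgroupOf le_rfl).map π
  rw [subgroupOf_self, map_top_of_surjective _ (QuotientGroup.mk'_surjective _)] at l1
  have hker : ∀ a : H, π a = 1 ↔ (a : G) ∈ B := fun a => QuotientGroup.eq_one_iff a
  obtain ⟨O, hO, ho, hc⟩ := Cfsg.Agent.S0215.result l1.toSylowTop (π ⟨w, hP.le hw⟩)
    (orderOf_eq_prime (by rw [← map_pow, hker]; simpa [sq] using hww) fun e => hwB ((hker _).1 e))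
    (mem_map_of_mem π hw) (by
      intro g hg
      obtain ⟨g, rfl⟩ := QuotientGroup.mk'_surjective _ g
      obtain ⟨y, hy, e⟩ := hg
      have e1 : π (y⁻¹ * (g * ⟨w, hP.le hw⟩ * g⁻¹)) = 1 := by
        rw [map_mul, map_inv, e, map_mul, map_mul, map_inv]; exact inv_mul_cancel _
      have e2 := (P.mul_mem_cancel_left (P.inv_mem hy)).1 (hB ((hker _).1 e1))
      have e3 := (hker ((⟨w, hP.le hw⟩ : H)⁻¹ * (g * ⟨w, hP.le hw⟩ * g⁻¹))).2 (hi g g.2 e2)
      rw [map_mul, map_inv, inv_mul_eq_one] at e3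
      rw [map_mul, map_mul, map_inv] at e3
      exact e3.symm)
  let M : Subgroup G := (O.comap π).map H.subtype ⊓ K
  have hM : K ≤ normalizer (M : Set G) := le_normalizer_inf
    (h1.trans (le_normalizer_of_cj_le fun x hx => cj_le_iff_forall.2 (by
      rintro _ ⟨y, hy, rfl⟩
      exact ⟨⟨x, hx⟩ * y * ⟨x, hx⟩⁻¹, (hO.comap π).conj_mem y hy _, rfl⟩))) le_normalizer
  rcases hK.norm M inf_le_right hM with e | e
  · obtain ⟨a, ha, ha1, ha2⟩ := hK.ev
    obtain ⟨⟨y, hy, rfl⟩, -⟩ : a ∈ M := e ▸ ha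
    refine absurd (mem_of_odd_pow (k := 1) (by rwa [pow_one, sq]) ho (h4 ?_)) ha1
    have := (hker (y ^ Nat.card O)).1 (by
      rw [map_pow]
      exact congrArg Subtype.val (pow_card_eq_one' (x := (⟨π y, hy⟩ : O))))
    exact this
  refine hK.cent_of_comm fun k hk => ?_
  have k1 := K.mul_mem (conj_mem_of_normalizes h2 (hP.le hw) hk) (K.inv_mem hk)
  refine ⟨k1, e ⟨⟨⟨w, hP.le hw⟩ * ⟨k, h1 hk⟩ * ⟨w, hP.le hw⟩⁻¹ * ⟨k, h1 hk⟩⁻¹, ?_, rfl⟩, k1⟩⟩
  have := hc (π ⟨k, h1 hk⟩)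
  rw [← map_inv, ← map_inv, ← map_mul, ← map_mul, ← map_mul] at this
  exact this

/-- the hypotheses -/
structure Hyp (S : Subgroup G) : Prop where
  simple : IsSimpleGroup G
  nab : ¬ IsMulCommutative G
  len : ¬ L G 9
  syl : SylIn 2 S ⊤
  card : Nat.card S = 128

namespace Hyp

variable {S : Subgroup G} (h : Hyp S)
include h

theorem change {S' : Subgroup G} (k : SylIn 2 S' ⊤) : Hyp S' :=
  ⟨h.simple, h.nab, h.len, k, (k.card_eq h.syl).trans h.card⟩

theorem not_L {H : Subgroup G} (hH : H ≠ ⊤) : ¬ L H 8 := fun k => h.len (k.succ_of_ne hH)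

theorem idx (H : Subgroup G) : H.index ≠ 2 := fun e => by
  have := h.simple
  rcases IsSimpleGroup.eq_bot_or_eq_top_of_normal H (normal_of_index_eq_two e) with rfl | rfl
  · rw [index_bot] at e
    have := isCyclic_of_prime_card (p := 2) e
    exact h.nab inferInstance
  · simp at e

theorem not_two : ¬ IsPGroup 2 (⊤ : Subgroup G) := fun k => by
  have := h.simple
  have k1 : IsPGroup 2 G := k.of_equiv topEquiv
  have := k1.isNilpotent
  exact h.nab ⟨⟨IsSimpleGroup.comm_iff_isSolvable.2 inferInstance⟩⟩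

theorem norm_ne {X : Subgroup G} (h1 : X ≠ ⊥) (h2 : X ≠ ⊤) : normalizer (X : Set G) ≠ ⊤ := fun e => by
  have := h.simple
  exact (IsSimpleGroup.eq_bot_or_eq_top_of_normal X (normalizer_eq_top_iff.1 e)).elim h1 h2

theorem norm_ne' {X : Subgroup G} (h1 : X ≠ ⊥) (h2 : IsPGroup 2 X) : normalizer (X : Set G) ≠ ⊤ :=
  h.norm_ne h1 fun e => h.not_two (e ▸ h2)

theorem c1_ne {z : G} (hz : z ≠ 1) : c1 z ≠ ⊤ := fun e => by
  have := h.simple
  have k : z ∈ center G := mem_center_iff.2 fun g =>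
    mem_centralizer_singleton_iff.1 (show g ∈ c1 z from e ▸ mem_top g)
  rcases IsSimpleGroup.eq_bot_or_eq_top_of_normal (center G) inferInstance with e | e
  · exact hz (by rwa [e, mem_bot] at k)
  · exact h.nab ⟨⟨fun a b => mem_center_iff.1 (e ▸ mem_top b) a⟩⟩

theorem big_card {H : Subgroup G} (hH : H ≠ ⊤) (k : 128 ∣ Nat.card H) : Nat.card H = 128 := by
  by_contra e
  exact h.not_L hH (L.succ_of_pow_dvd (n := 7) Nat.prime_two k e)

theorem big {H : Subgroup G} (hH : H ≠ ⊤) (k : 128 ∣ Nat.card H) {x : G} (hx : NT x) : x ∉ H :=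
  hx.not_mem (IsPGroup.of_card (n := 7) (h.big_card hH k))

theorem eq_of_le {H : Subgroup G} (hH : H ≠ ⊤) (k : S ≤ H) : S = H :=
  eq_of_le_of_card_ge k ((h.big_card hH (h.card ▸ card_dvd_of_le k)).trans h.card.symm).le

theorem omega_le {A H : Subgroup G} (hH : H ≠ ⊤) (h1 : A ≤ H) (h2 : H ≤ normalizer (A : Set G))
    (hA : IsPGroup 2 A) (h3 : 16 ∣ Nat.card A) : cardFactors (Nat.card H) ≤ 7 := by
  by_contra k
  by_cases hs : Group.IsSolvable H
  · exact h.not_L hH ((L.of_solvable hs).anti (by omega))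
  · have := hA.isNilpotent
    exact h.not_L hH (L.add_four_rel hs h1 h2 inferInstance (L.of_pow_dvd (n := 4) Nat.prime_two h3))

end Hyp

theorem cardFactors_two_pow_mul (a : ℕ) {k : ℕ} (hk : k ≠ 0) :
    cardFactors (2 ^ a * k) = a + cardFactors k := by
  rw [cardFactors_mul (by positivity) hk, cardFactors_apply_prime_pow Nat.prime_two]

/-- a subgroup of index two -/
theorem card_two_of_omega {P C P₁ H : Subgroup G} (ho : cardFactors (Nat.card H) ≤ 7)
    (hP : SylIn 2 P C) (hc : Nat.card P = 32) (h1 : P ≠ C) (h2 : C ≤ H) (h3 : IsPGroup 2 P₁)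
    (h4 : P < P₁) (h5 : P₁ ≤ H) : Nat.card H = 2 * Nat.card C := by
  have e1 := card_mul_rel' hP.le
  have e2 := card_mul_rel' h2
  have e3 := (two_mul_card_dvd h3 h4).trans (card_dvd_of_le h5)
  have e4 := hP.not_dvd_relIndex
  have e5 : P.relIndex C ≠ 1 := fun e => h1 (le_antisymm hP.le (relIndex_eq_one.1 e))
  have e6 : Nat.card H ≠ 0 := Nat.card_pos.ne'
  generalize P.relIndex C = k at *
  generalize C.relIndex H = m at *
  rw [← e2, ← e1, hc] at e3 e6 ho ⊢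
  have hk : k ≠ 0 := by rintro rfl; simp at e6
  obtain ⟨m, rfl⟩ : 2 ∣ m := by
    rw [mul_assoc, mul_comm 2] at e3
    exact ((Nat.Prime.dvd_mul Nat.prime_two).1 (Nat.dvd_of_mul_dvd_mul_left (by norm_num) e3)).resolve_left e4
  have hm : m ≠ 0 := by rintro rfl; simp at e6
  rw [show 32 * k * (2 * m) = 2 ^ 6 * (k * m) by ring, cardFactors_two_pow_mul _ (mul_ne_zero hk hm),
    cardFactors_mul hk hm] at ho
  have := one_le_cardFactors (k := k) (by omega)
  by_cases e : m = 1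
  · rw [e]; ring
  · have := one_le_cardFactors (k := m) (by omega)
    omega

end CL.Len8
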